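import Mathlib
import Cfsg.Agent.TcData.Fi22.I14080.Tab

set_option autoImplicit false
set_option maxRecDepth 100000
set_option linter.all false

namespace Cfsg.Agent.TcData.Fi22.I14080

open Cfsg.Spor Cfsg.Agent.Lib.TcFacts Cfsg.Agent.Lib.TcBits Cfsg.Agent.Lib.TcPres Cfsg.Spor.Fi22 Cfsg.Agent.TcData.Fi22

theorem b0 : Block F al 0 256 241 :=
  block_of_check (k := 8) rfl (by decide +kernel)

theorem b1 : Block F al 256 512 195 :=
  block_of_check (k := 8) rfl (by decide +kernel)

theorem b2 : Block F al 512 768 198 :=
  block_of_check (k := 8) rfl (by decide +kernel)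

theorem b3 : Block F al 768 1024 166 :=
  block_of_check (k := 8) rfl (by decide +kernel)

theorem b4 : Block F al 1024 1280 130 :=
  block_of_check (k := 8) rfl (by decide +kernel)

theorem b5 : Block F al 1280 1536 182 :=
  block_of_check (k := 8) rfl (by decide +kernel)

theorem b6 : Block F al 1536 1792 132 :=
  block_of_check (k := 8) rfl (by decide +kernel)

theorem b7 : Block F al 1792 2048 153 :=
  block_of_check (k := 8) rfl (by decide +kernel)

theorem b8 : Block F al 2048 2304 73 :=
  block_of_check (k := 8) rfl (by decide +kernel)

theorem b9 : Block F al 2304 2560 175 :=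
  block_of_check (k := 8) rfl (by decide +kernel)

theorem b10 : Block F al 2560 2816 113 :=
  block_of_check (k := 8) rfl (by decide +kernel)

theorem b11 : Block F al 2816 3072 55 :=
  block_of_check (k := 8) rfl (by decide +kernel)

theorem b12 : Block F al 3072 3328 161 :=
  block_of_check (k := 8) rfl (by decide +kernel)

theorem b13 : Block F al 3328 3584 126 :=
  block_of_check (k := 8) rfl (by decide +kernel)

theorem b14 : Block F al 3584 3840 72 :=
  block_of_check (k := 8) rfl (by decide +kernel)

theorem b15 : Block F al 3840 4096 22 :=
  block_of_check (k := 8) rfl (by decide +kernel)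

theorem b16 : Block F al 4096 4352 68 :=
  block_of_check (k := 8) rfl (by decide +kernel)

theorem b17 : Block F al 4352 4608 203 :=
  block_of_check (k := 8) rfl (by decide +kernel)

theorem b18 : Block F al 4608 4864 94 :=
  block_of_check (k := 8) rfl (by decide +kernel)

theorem b19 : Block F al 4864 5120 103 :=
  block_of_check (k := 8) rfl (by decide +kernel)

theorem b20 : Block F al 5120 5376 4 :=
  block_of_check (k := 8) rfl (by decide +kernel)

theorem b21 : Block F al 5376 5632 49 :=
  block_of_check (k := 8) rfl (by decide +kernel)

theorem b22 : Block F al 5632 5888 35 :=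
  block_of_check (k := 8) rfl (by decide +kernel)

theorem b23 : Block F al 5888 6144 222 :=
  block_of_check (k := 8) rfl (by decide +kernel)

theorem b24 : Block F al 6144 6400 119 :=
  block_of_check (k := 8) rfl (by decide +kernel)

theorem b25 : Block F al 6400 6656 63 :=
  block_of_check (k := 8) rfl (by decide +kernel)

theorem b26 : Block F al 6656 6912 110 :=
  block_of_check (k := 8) rfl (by decide +kernel)

theorem b27 : Block F al 6912 7168 2 :=
  block_of_check (k := 8) rfl (by decide +kernel)

theorem b28 : Block F al 7168 7424 49 :=
  block_of_check (k := 8) rfl (by decide +kernel)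

theorem b29 : Block F al 7424 7680 38 :=
  block_of_check (k := 8) rfl (by decide +kernel)

theorem b30 : Block F al 7680 7936 197 :=
  block_of_check (k := 8) rfl (by decide +kernel)

theorem b31 : Block F al 7936 8192 180 :=
  block_of_check (k := 8) rfl (by decide +kernel)

theorem b32 : Block F al 8192 8448 73 :=
  block_of_check (k := 8) rfl (by decide +kernel)

theorem b33 : Block F al 8448 8704 89 :=
  block_of_check (k := 8) rfl (by decide +kernel)

theorem b34 : Block F al 8704 8960 92 :=
  block_of_check (k := 8) rfl (by decide +kernel)

theorem b35 : Block F al 8960 9216 147 :=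
  block_of_check (k := 8) rfl (by decide +kernel)

theorem b36 : Block F al 9216 9472 256 :=
  block_of_check (k := 8) rfl (by decide +kernel)

theorem b37 : Block F al 9472 9728 256 :=
  block_of_check (k := 8) rfl (by decide +kernel)

theorem b38 : Block F al 9728 9984 256 :=
  block_of_check (k := 8) rfl (by decide +kernel)

theorem b39 : Block F al 9984 10240 256 :=
  block_of_check (k := 8) rfl (by decide +kernel)

theorem b40 : Block F al 10240 10496 256 :=
  block_of_check (k := 8) rfl (by decide +kernel)

theorem b41 : Block F al 10496 10752 256 :=
  block_of_check (k := 8) rfl (by decide +kernel)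

end Cfsg.Agent.TcData.Fi22.I14080
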