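import Mathlib
import Cfsg.Agent.TcData.Fi22.I14080.Chk0
import Cfsg.Agent.TcData.Fi22.I14080.Chk1
import Cfsg.Agent.TcData.Fi22.I14080.Chk2

set_option autoImplicit false
set_option maxRecDepth 100000
set_option linter.all false

namespace Cfsg.Agent.TcData.Fi22.I14080

open Cfsg.Spor Cfsg.Agent.Lib.TcFacts Cfsg.Agent.Lib.TcBits Cfsg.Agent.Lib.TcPres Cfsg.Spor.Fi22 Cfsg.Agent.TcData.Fi22

theorem c0 : Block F al 0 256 241 := b0

theorem c1 : Block F al 0 512 436 :=
  block_comb c0 b1 (Nat.zero_le _) (Nat.le_of_ble_eq_true rfl) rfl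

theorem c2 : Block F al 0 768 634 :=
  block_comb c1 b2 (Nat.zero_le _) (Nat.le_of_ble_eq_true rfl) rfl

theorem c3 : Block F al 0 1024 800 :=
  block_comb c2 b3 (Nat.zero_le _) (Nat.le_of_ble_eq_true rfl) rfl

theorem c4 : Block F al 0 1280 930 :=
  block_comb c3 b4 (Nat.zero_le _) (Nat.le_of_ble_eq_true rfl) rfl

theorem c5 : Block F al 0 1536 1112 :=
  block_comb c4 b5 (Nat.zero_le _) (Nat.le_of_ble_eq_true rfl) rfl

theorem c6 : Block F al 0 1792 1244 :=
  block_comb c5 b6 (Nat.zero_le _) (Nat.le_of_ble_eq_true rfl) rfl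

theorem c7 : Block F al 0 2048 1397 :=
  block_comb c6 b7 (Nat.zero_le _) (Nat.le_of_ble_eq_true rfl) rfl

theorem c8 : Block F al 0 2304 1470 :=
  block_comb c7 b8 (Nat.zero_le _) (Nat.le_of_ble_eq_true rfl) rfl

theorem c9 : Block F al 0 2560 1645 :=
  block_comb c8 b9 (Nat.zero_le _) (Nat.le_of_ble_eq_true rfl) rfl

theorem c10 : Block F al 0 2816 1758 :=
  block_comb c9 b10 (Nat.zero_le _) (Nat.le_of_ble_eq_true rfl) rfl

theorem c11 : Block F al 0 3072 1813 :=
  block_comb c10 b11 (Nat.zero_le _) (Nat.le_of_ble_eq_true rfl) rfl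

theorem c12 : Block F al 0 3328 1974 :=
  block_comb c11 b12 (Nat.zero_le _) (Nat.le_of_ble_eq_true rfl) rfl

theorem c13 : Block F al 0 3584 2100 :=
  block_comb c12 b13 (Nat.zero_le _) (Nat.le_of_ble_eq_true rfl) rfl

theorem c14 : Block F al 0 3840 2172 :=
  block_comb c13 b14 (Nat.zero_le _) (Nat.le_of_ble_eq_true rfl) rfl

theorem c15 : Block F al 0 4096 2194 :=
  block_comb c14 b15 (Nat.zero_le _) (Nat.le_of_ble_eq_true rfl) rfl

theorem c16 : Block F al 0 4352 2262 :=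
  block_comb c15 b16 (Nat.zero_le _) (Nat.le_of_ble_eq_true rfl) rfl

theorem c17 : Block F al 0 4608 2465 :=
  block_comb c16 b17 (Nat.zero_le _) (Nat.le_of_ble_eq_true rfl) rfl

theorem c18 : Block F al 0 4864 2559 :=
  block_comb c17 b18 (Nat.zero_le _) (Nat.le_of_ble_eq_true rfl) rfl

theorem c19 : Block F al 0 5120 2662 :=
  block_comb c18 b19 (Nat.zero_le _) (Nat.le_of_ble_eq_true rfl) rfl

theorem c20 : Block F al 0 5376 2666 :=
  block_comb c19 b20 (Nat.zero_le _) (Nat.le_of_ble_eq_true rfl) rfl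

theorem c21 : Block F al 0 5632 2715 :=
  block_comb c20 b21 (Nat.zero_le _) (Nat.le_of_ble_eq_true rfl) rfl

theorem c22 : Block F al 0 5888 2750 :=
  block_comb c21 b22 (Nat.zero_le _) (Nat.le_of_ble_eq_true rfl) rfl

theorem c23 : Block F al 0 6144 2972 :=
  block_comb c22 b23 (Nat.zero_le _) (Nat.le_of_ble_eq_true rfl) rfl

theorem c24 : Block F al 0 6400 3091 :=
  block_comb c23 b24 (Nat.zero_le _) (Nat.le_of_ble_eq_true rfl) rfl

theorem c25 : Block F al 0 6656 3154 :=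
  block_comb c24 b25 (Nat.zero_le _) (Nat.le_of_ble_eq_true rfl) rfl

theorem c26 : Block F al 0 6912 3264 :=
  block_comb c25 b26 (Nat.zero_le _) (Nat.le_of_ble_eq_true rfl) rfl

theorem c27 : Block F al 0 7168 3266 :=
  block_comb c26 b27 (Nat.zero_le _) (Nat.le_of_ble_eq_true rfl) rfl

theorem c28 : Block F al 0 7424 3315 :=
  block_comb c27 b28 (Nat.zero_le _) (Nat.le_of_ble_eq_true rfl) rfl

theorem c29 : Block F al 0 7680 3353 :=
  block_comb c28 b29 (Nat.zero_le _) (Nat.le_of_ble_eq_true rfl) rfl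

theorem c30 : Block F al 0 7936 3550 :=
  block_comb c29 b30 (Nat.zero_le _) (Nat.le_of_ble_eq_true rfl) rfl

theorem c31 : Block F al 0 8192 3730 :=
  block_comb c30 b31 (Nat.zero_le _) (Nat.le_of_ble_eq_true rfl) rfl

theorem c32 : Block F al 0 8448 3803 :=
  block_comb c31 b32 (Nat.zero_le _) (Nat.le_of_ble_eq_true rfl) rfl

theorem c33 : Block F al 0 8704 3892 :=
  block_comb c32 b33 (Nat.zero_le _) (Nat.le_of_ble_eq_true rfl) rfl

theorem c34 : Block F al 0 8960 3984 :=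
  block_comb c33 b34 (Nat.zero_le _) (Nat.le_of_ble_eq_true rfl) rfl

theorem c35 : Block F al 0 9216 4131 :=
  block_comb c34 b35 (Nat.zero_le _) (Nat.le_of_ble_eq_true rfl) rfl

theorem c36 : Block F al 0 9472 4387 :=
  block_comb c35 b36 (Nat.zero_le _) (Nat.le_of_ble_eq_true rfl) rfl

theorem c37 : Block F al 0 9728 4643 :=
  block_comb c36 b37 (Nat.zero_le _) (Nat.le_of_ble_eq_true rfl) rfl

theorem c38 : Block F al 0 9984 4899 :=
  block_comb c37 b38 (Nat.zero_le _) (Nat.le_of_ble_eq_true rfl) rfl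

theorem c39 : Block F al 0 10240 5155 :=
  block_comb c38 b39 (Nat.zero_le _) (Nat.le_of_ble_eq_true rfl) rfl

theorem c40 : Block F al 0 10496 5411 :=
  block_comb c39 b40 (Nat.zero_le _) (Nat.le_of_ble_eq_true rfl) rfl

theorem c41 : Block F al 0 10752 5667 :=
  block_comb c40 b41 (Nat.zero_le _) (Nat.le_of_ble_eq_true rfl) rfl

theorem c42 : Block F al 0 11008 5923 :=
  block_comb c41 b42 (Nat.zero_le _) (Nat.le_of_ble_eq_true rfl) rfl

theorem c43 : Block F al 0 11264 6179 :=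
  block_comb c42 b43 (Nat.zero_le _) (Nat.le_of_ble_eq_true rfl) rfl

theorem c44 : Block F al 0 11520 6435 :=
  block_comb c43 b44 (Nat.zero_le _) (Nat.le_of_ble_eq_true rfl) rfl

theorem c45 : Block F al 0 11776 6691 :=
  block_comb c44 b45 (Nat.zero_le _) (Nat.le_of_ble_eq_true rfl) rfl

theorem c46 : Block F al 0 12032 6947 :=
  block_comb c45 b46 (Nat.zero_le _) (Nat.le_of_ble_eq_true rfl) rfl

theorem c47 : Block F al 0 12288 7203 :=
  block_comb c46 b47 (Nat.zero_le _) (Nat.le_of_ble_eq_true rfl) rfl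

theorem c48 : Block F al 0 12544 7459 :=
  block_comb c47 b48 (Nat.zero_le _) (Nat.le_of_ble_eq_true rfl) rfl

theorem c49 : Block F al 0 12800 7715 :=
  block_comb c48 b49 (Nat.zero_le _) (Nat.le_of_ble_eq_true rfl) rfl

theorem c50 : Block F al 0 13056 7971 :=
  block_comb c49 b50 (Nat.zero_le _) (Nat.le_of_ble_eq_true rfl) rfl

theorem c51 : Block F al 0 13312 8227 :=
  block_comb c50 b51 (Nat.zero_le _) (Nat.le_of_ble_eq_true rfl) rfl

theorem c52 : Block F al 0 13568 8483 :=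
  block_comb c51 b52 (Nat.zero_le _) (Nat.le_of_ble_eq_true rfl) rfl

theorem c53 : Block F al 0 13824 8739 :=
  block_comb c52 b53 (Nat.zero_le _) (Nat.le_of_ble_eq_true rfl) rfl

theorem c54 : Block F al 0 14080 8995 :=
  block_comb c53 b54 (Nat.zero_le _) (Nat.le_of_ble_eq_true rfl) rfl

theorem c55 : Block F al 0 14336 9251 :=
  block_comb c54 b55 (Nat.zero_le _) (Nat.le_of_ble_eq_true rfl) rfl

theorem c56 : Block F al 0 14592 9507 :=
  block_comb c55 b56 (Nat.zero_le _) (Nat.le_of_ble_eq_true rfl) rfl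

theorem c57 : Block F al 0 14848 9763 :=
  block_comb c56 b57 (Nat.zero_le _) (Nat.le_of_ble_eq_true rfl) rfl

theorem c58 : Block F al 0 15104 10019 :=
  block_comb c57 b58 (Nat.zero_le _) (Nat.le_of_ble_eq_true rfl) rfl

theorem c59 : Block F al 0 15360 10275 :=
  block_comb c58 b59 (Nat.zero_le _) (Nat.le_of_ble_eq_true rfl) rfl

theorem c60 : Block F al 0 15616 10531 :=
  block_comb c59 b60 (Nat.zero_le _) (Nat.le_of_ble_eq_true rfl) rfl

theorem c61 : Block F al 0 15872 10787 :=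
  block_comb c60 b61 (Nat.zero_le _) (Nat.le_of_ble_eq_true rfl) rfl

theorem c62 : Block F al 0 16128 11043 :=
  block_comb c61 b62 (Nat.zero_le _) (Nat.le_of_ble_eq_true rfl) rfl

theorem c63 : Block F al 0 16384 11299 :=
  block_comb c62 b63 (Nat.zero_le _) (Nat.le_of_ble_eq_true rfl) rfl

theorem c64 : Block F al 0 16640 11555 :=
  block_comb c63 b64 (Nat.zero_le _) (Nat.le_of_ble_eq_true rfl) rfl

theorem c65 : Block F al 0 16896 11811 :=
  block_comb c64 b65 (Nat.zero_le _) (Nat.le_of_ble_eq_true rfl) rfl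

theorem c66 : Block F al 0 17152 12067 :=
  block_comb c65 b66 (Nat.zero_le _) (Nat.le_of_ble_eq_true rfl) rfl

theorem c67 : Block F al 0 17408 12323 :=
  block_comb c66 b67 (Nat.zero_le _) (Nat.le_of_ble_eq_true rfl) rfl

theorem c68 : Block F al 0 17664 12579 :=
  block_comb c67 b68 (Nat.zero_le _) (Nat.le_of_ble_eq_true rfl) rfl

theorem c69 : Block F al 0 17920 12835 :=
  block_comb c68 b69 (Nat.zero_le _) (Nat.le_of_ble_eq_true rfl) rfl

theorem c70 : Block F al 0 18176 13091 :=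
  block_comb c69 b70 (Nat.zero_le _) (Nat.le_of_ble_eq_true rfl) rfl

theorem c71 : Block F al 0 18432 13347 :=
  block_comb c70 b71 (Nat.zero_le _) (Nat.le_of_ble_eq_true rfl) rfl

theorem c72 : Block F al 0 18688 13603 :=
  block_comb c71 b72 (Nat.zero_le _) (Nat.le_of_ble_eq_true rfl) rfl

theorem c73 : Block F al 0 18944 13859 :=
  block_comb c72 b73 (Nat.zero_le _) (Nat.le_of_ble_eq_true rfl) rfl

theorem c74 : Block F al 0 19200 14080 :=
  block_comb c73 b74 (Nat.zero_le _) (Nat.le_of_ble_eq_true rfl) rfl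

end Cfsg.Agent.TcData.Fi22.I14080
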